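import Cfsg.Agent.ChevSubfield.Borel
import Cfsg.Agent.ChevSubfield.LargeRoot
import Cfsg.Agent.Chevalley.SLTwoHom
import Cfsg.Agent.S0801

/-!
Odd characteristic: the entry at the lowest row and the highest root lies in the subfield.
-/

set_option autoImplicit false

namespace CfsgLib.ChevSubfield

open Cfsg.Lie CfsgLib.Chevalley CfsgLib.ChevField
open scoped Matrix MatrixGroups

/-- A product of transvections equal to a diagonal matrix, over nine elements. -/
theorem nine_word {K : Type*} [Field K] {c : K} (h3 : (3 : K) = 0) (hc : c ^ 2 = -1) (u : Kˣ)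
    (hu : (u : K) = c) :
    transU (1 : K) * transL c * transU (-1) * transL (-c) * transU 1 * transL c =
      SL2Rel.dia u := by
  apply Matrix.SpecialLinearGroup.ext
  intro i j
  have hinv : (u : K)⁻¹ = -c := by
    rw [hu]
    refine inv_eq_of_mul_eq_one_right ?_
    linear_combination -hc
  fin_cases i <;> fin_cases j <;>
    simp [transU_val, transL_val, SL2Rel.dia_val, Matrix.SpecialLinearGroup.coe_mul,
      Matrix.mul_apply, Fin.sum_univ_two, hinv] <;>
    (try simp only [hu]) <;> grind

/-- The lower left entry of a power of `[[1 + x, 1], [x, 1]]` is a monic polynomial in `x`. -/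
theorem pow_lower_poly {K : Type*} [Field K] (p : ℕ) [Fact p.Prime] [CharP K p] (x : K) {n : ℕ}
    (hn : n ≠ 0) : ∃ Q : Polynomial (ZMod p), Q.Monic ∧
      Q.eval₂ (ZMod.castHom dvd_rfl K) x = ((transU (1 : K) * transL x) ^ n).1 1 0 := by
  obtain ⟨m, rfl⟩ := Nat.exists_eq_succ_of_ne_zero hn
  suffices ∃ P Q : Polynomial (ZMod p), P.Monic ∧ Q.Monic ∧
      P.degree = (m + 1 : ℕ) ∧ Q.degree = (m + 1 : ℕ) ∧
      P.eval₂ (ZMod.castHom dvd_rfl K) x = ((transU (1 : K) * transL x) ^ (m + 1)).1 0 0 ∧
      Q.eval₂ (ZMod.castHom dvd_rfl K) x = ((transU (1 : K) * transL x) ^ (m + 1)).1 1 0 by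
    obtain ⟨-, Q, -, hQ, -, -, -, hQe⟩ := this
    exact ⟨Q, hQ, hQe⟩
  clear hn
  induction m with
  | zero =>
    refine ⟨Polynomial.X + Polynomial.C 1, Polynomial.X, Polynomial.monic_X_add_C 1,
      Polynomial.monic_X, Polynomial.degree_X_add_C 1, Polynomial.degree_X, ?_, ?_⟩ <;>
      simp [transU_val, transL_val, Matrix.SpecialLinearGroup.coe_mul, Matrix.mul_apply,
        Fin.sum_univ_two, add_comm x]
  | succ m ih =>
    obtain ⟨P, Q, hP, hQ, dP, dQ, eP, eQ⟩ := ih
    have hlt : ∀ A : Polynomial (ZMod p), A.Monic → A.degree = (1 : ℕ) →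
        Q.degree < (A * P).degree := fun A hA dA => by
      rw [Polynomial.degree_mul, dA, dP, dQ, ← Nat.cast_add, Nat.cast_lt]
      omega
    have hdeg : ∀ A : Polynomial (ZMod p), A.Monic → A.degree = (1 : ℕ) →
        (A * P + Q).degree = (m + 1 + 1 : ℕ) := fun A hA dA => by
      rw [Polynomial.degree_add_eq_left_of_degree_lt (hlt A hA dA), Polynomial.degree_mul, dA, dP,
        ← Nat.cast_add, Nat.add_comm]
    refine ⟨(Polynomial.X + Polynomial.C 1) * P + Q, Polynomial.X * P + Q,
      ((Polynomial.monic_X_add_C 1).mul hP).add_of_left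
        (hlt _ (Polynomial.monic_X_add_C 1) (Polynomial.degree_X_add_C 1)),
      (Polynomial.monic_X.mul hP).add_of_left (hlt _ Polynomial.monic_X Polynomial.degree_X),
      hdeg _ (Polynomial.monic_X_add_C 1) (Polynomial.degree_X_add_C 1),
      hdeg _ Polynomial.monic_X Polynomial.degree_X, ?_, ?_⟩ <;>
      rw [pow_succ' _ (m + 1)] <;>
      generalize (transU (1 : K) * transL x) ^ (m + 1) = M at eP eQ ⊢ <;>
      simp [transU_val, transL_val, Matrix.SpecialLinearGroup.coe_mul, Matrix.mul_apply,
        Fin.sum_univ_two, eP, eQ, add_comm x]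

variable {D : ChevalleyDatum} {S : Sys D} {e ℓ : ℕ}
variable {K : Type*} [Field K] {σ : K →+* K} {H : Subgroup (GL D.Idx K)}
  (hfix : RootsIn S σ H)
  (hUni : ∀ g ∈ H, g ∈ D.posUnipotent K → gmap D σ g = g)
  (htop : ∀ t, S.xG K (topIdx D) t ∈ H → σ t = t)
variable {p q : ℕ} [Finite H]

include hfix hUni htop in
theorem key_odd (T : SubFacts S e ℓ) (P : FrobData σ p q) (hp : p ≠ 2) {k : ℕ} (hk : k < D.rank)
    (hpk : D.pairing (topIdx D) (D.simple k) = 1) {g : GL D.Idx K} (hgH : g ∈ H)
    (hgG : g ∈ D.group K) :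
    σ (crd D ((g : Matrix D.Idx D.Idx K) *ᵥ evec D K (topIdx D)) 0) =
      crd D ((g : Matrix D.Idx D.Idx K) *ᵥ evec D K (topIdx D)) 0 := by
  classical
  have := P.char
  have := Fact.mk P.prime
  by_contra hcF
  set c := crd D ((g : Matrix D.Idx D.Idx K) *ᵥ evec D K (topIdx D)) 0 with hc
  have hc0 : c ≠ 0 := fun e => hcF (by rw [e, map_zero])
  obtain ⟨v, hv, hconj, -⟩ := corner_form T hgG hc0
  rw [← hc] at hconj
  have hvt : ∀ t : K, v * S.xG K (topIdx D) t * v⁻¹ = S.xG K (topIdx D) t := fun t => by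
    rw [← (S.top_commute_pos K T.high hv t).eq, mul_inv_cancel_right]
  obtain ⟨φ, -, hφ⟩ := S.exists_sl2_hom K T.high.lt
  set H' := H.comap (MulAut.conj v).toMonoidHom
  have hmem : ∀ x, x ∈ H' ↔ v * x * v⁻¹ ∈ H := fun x => Iff.rfl
  set S0 := H'.comap φ
  have hUp : ∀ f : K, σ f = f → transU f ∈ S0 := fun f hf => by
    show φ _ ∈ H'
    rw [(hφ _ f).1 (transU_val f), hmem, hvt]
    exact xG_fixed_mem (S := S) hfix T.high.lt hf
  have hLo : ∀ f : K, σ f = f → transL (c * f) ∈ S0 := fun f hf => by
    show φ _ ∈ H'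
    rw [(hφ _ _).2 (transL_val _), T.high.neg_top, hmem, ← hconj]
    exact mul_mem (mul_mem hgH (xG_fixed_mem (S := S) hfix T.high.lt hf)) (inv_mem hgH)
  have hUtop : ∀ t : K, transU t ∈ S0 → σ t = t := fun t ht => by
    have : φ (transU t) ∈ H' := ht
    rw [(hφ _ t).1 (transU_val t), hmem, hvt] at this
    exact htop t this
  by_cases hnine : ∀ f : K, σ f = f → f ≠ 0 → (c * f) ^ 2 = -1
  · -- the field with three elements
    have hc2 : c ^ 2 = -1 := by simpa using hnine 1 (map_one σ) one_ne_zero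
    have hsq : ∀ f : K, σ f = f → f ≠ 0 → f = 1 ∨ f = -1 := fun f hf hf0 => by
      have h := hnine f hf hf0
      rw [mul_pow, hc2, neg_one_mul, neg_inj] at h
      exact sq_eq_one_iff.mp h
    have h20 : (2 : K) ≠ 0 := by
      intro h
      have := (CharP.cast_eq_zero_iff K p 2).mp (by exact_mod_cast h)
      exact hp ((Nat.prime_dvd_prime_iff_eq P.prime Nat.prime_two).mp this)
    have h3 : (3 : K) = 0 := by
      rcases hsq 2 (map_ofNat σ 2) h20 with h | h
      · have : (1 : K) = 0 := by linear_combination h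
        exact absurd this one_ne_zero
      · linear_combination h
    set u : Kˣ := Units.mk0 c hc0 with hu
    have hdia : SL2Rel.dia u ∈ S0 := by
      rw [← nine_word h3 hc2 u rfl]
      have e1 : transU (1 : K) ∈ S0 := hUp 1 (map_one σ)
      have e2 : transU (-1 : K) ∈ S0 := hUp (-1) (by rw [map_neg, map_one])
      have e3 : transL c ∈ S0 := by simpa using hLo 1 (map_one σ)
      have e4 : transL (-c) ∈ S0 := by simpa using hLo (-1) (by rw [map_neg, map_one])
      exact mul_mem (mul_mem (mul_mem (mul_mem (mul_mem e1 e3) e2) e4) e1) e3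
    have hφd : φ (SL2Rel.dia u) = S.nG K (topIdx D) (u : K) * S.nG K (topIdx D) (-1) := by
      have hdec : SL2Rel.dia u = transU (u : K) * transL (-(u : K)⁻¹) * transU (u : K) *
          (transU (-1) * transL 1 * transU (-1)) := by
        apply Matrix.SpecialLinearGroup.ext
        intro i j
        fin_cases i <;> fin_cases j <;>
          simp [transU_val, transL_val, SL2Rel.dia_val, Matrix.SpecialLinearGroup.coe_mul,
            Matrix.mul_apply, Fin.sum_univ_two]
      rw [hdec, S.nG_eq, S.nG_eq]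
      simp only [map_mul, (hφ _ _).1 (transU_val _), (hφ _ _).2 (transL_val _), inv_neg, inv_one,
        neg_neg]
    have hmemH : v * φ (SL2Rel.dia u) * v⁻¹ ∈ H := hdia
    set h := φ (SL2Rel.dia u) with hh
    have hdiag : h ∈ D.diagonalSubgroup K := by
      rw [hφd, S.diagonal_eq]
      refine ⟨fun j => u ^ (D.coroot.getD (topIdx D) #[]).getD j 0, Units.ext ?_⟩
      rw [Units.val_mul, S.nG_val, S.nG_val, ← S.hMat_eq, S.hMat_tor K T.high.lt u]
    have hv' : v * (h * v⁻¹ * h⁻¹) ∈ D.posUnipotent K :=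
      mul_mem hv ((Subgroup.mem_normalizer_iff.mp (S.diagonal_le_normalizer K hdiag) _).mp
        (inv_mem hv))
    have hconjα : h * S.xG K (D.simple k) 1 * h⁻¹ = S.xG K (D.simple k) c := by
      rw [hφd, S.hRoot_conj K T.high.lt (S.wf.simple_lt k hk), hpk, zpow_one, mul_one]
      rfl
    exact hcF (torus_fixed (S := S) hfix hUni hv' (h := h)
      (by convert hmemH using 1; group) hk hconjα)
  · push Not at hnine
    obtain ⟨f, hf, hf0, hne⟩ := hnine
    set lam := c * f with hlam
    have hlam0 : lam ≠ 0 := mul_ne_zero hc0 hf0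
    have hlamF : σ lam ≠ lam := fun h => hcF (by
      rw [map_mul, hf] at h
      exact mul_right_cancel₀ hf0 h)
    -- `λ` is algebraic over the prime field, by the finite order of `[[1, 1], [0, 1]][[1, 0], [λ, 1]]`
    set g1 := transU (1 : K) * transL lam
    have hg1' : g1 ∈ S0 := mul_mem (hUp 1 (map_one σ)) (hLo f hf)
    have hg1 : v * φ g1 * v⁻¹ ∈ H := hg1'
    obtain ⟨N, hN, hpow⟩ :=
      (isOfFinOrder_of_finite (⟨_, hg1⟩ : H)).exists_pow_eq_one
    have hker : φ (g1 ^ N) = 1 := by
      have h1 : (v * φ g1 * v⁻¹) ^ N = 1 := congrArg Subtype.val hpow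
      rw [conj_pow] at h1
      rw [map_pow]
      exact mul_left_cancel (by
        rw [mul_one]; exact mul_inv_eq_one.mp h1)
    have h10 : (g1 ^ N).1 1 0 = 0 := by
      generalize g1 ^ N = h at hker
      by_contra h0
      have hdet := SL2Rel.det_eq h
      have e1 : h * transU 1 * h⁻¹ = transU (h.1 0 0 / h.1 1 0) * transL (-(h.1 1 0 ^ 2)) *
          transU (-(h.1 0 0 / h.1 1 0)) := by
        apply Matrix.SpecialLinearGroup.ext
        intro i j
        fin_cases i <;> fin_cases j <;>
          simp [transU_val, transL_val, Matrix.SpecialLinearGroup.coe_mul,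
            Matrix.SpecialLinearGroup.coe_inv, Matrix.adjugate_fin_two, Matrix.mul_apply,
            Fin.sum_univ_two] <;> field_simp <;> grind
      have e2 := congrArg φ e1
      rw [map_mul, map_mul, map_mul, map_mul, hker, map_inv, hker, inv_one, one_mul, mul_one,
        (hφ _ _).1 (transU_val _), (hφ _ _).1 (transU_val _), (hφ _ _).1 (transU_val _),
        (hφ _ _).2 (transL_val _), T.high.neg_top] at e2
      have e3 : S.xG K 0 (-(h.1 1 0 ^ 2)) = S.xG K (topIdx D) 1 := by
        have e4 : S.xG K 0 (-(h.1 1 0 ^ 2)) = (S.xG K (topIdx D) (h.1 0 0 / h.1 1 0))⁻¹ *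
            S.xG K (topIdx D) 1 * (S.xG K (topIdx D) (-(h.1 0 0 / h.1 1 0)))⁻¹ := by
          rw [e2]; group
        rw [e4, S.xG_inv, S.xG_inv, S.xG_add, S.xG_add]
        congr 1
        ring
      have := S.top_of_xG_eq K T.high T.high.pos
        (neg_ne_zero.mpr (pow_ne_zero 2 h0)) e3
      have h2 := T.two_le
      have h3 := T.high.half_le
      omega
    have hint : Finite ↥(Subfield.closure ({lam} : Set K)) := by
      obtain ⟨Q, hQ, hQe⟩ := pow_lower_poly p lam (Nat.pos_iff_ne_zero.mp hN)
      exact finite_closure_of_root p ⟨Q, hQ, hQe.trans h10⟩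
    set L := Subfield.closure ({lam} : Set K)
    have : Fintype L := Fintype.ofFinite L
    set lamL : L := ⟨lam, Subfield.subset_closure rfl⟩
    have hgen : Subfield.closure ({lamL} : Set L) = ⊤ := by
      refine eq_top_iff.mpr fun x _ => ?_
      have hx : (x : K) ∈ (Subfield.closure ({lamL} : Set L)).map L.subtype := by
        rw [RingHom.map_field_closure, Set.image_singleton]
        exact x.2
      obtain ⟨y, hy, hyx⟩ := hx
      exact (Subtype.ext hyx : y = x) ▸ hy
    have h2L : (2 : L) ≠ 0 := fun h => by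
      have : (2 : K) = 0 := congrArg Subtype.val h
      have := (CharP.cast_eq_zero_iff K p 2).mp (by exact_mod_cast this)
      exact hp ((Nat.prime_dvd_prime_iff_eq P.prime Nat.prime_two).mp this)
    rcases Cfsg.Agent.S0801.result h2L lamL (fun h => hlam0 (congrArg Subtype.val h)) hgen with
      ⟨htopL, -⟩ | ⟨-, hbad, -⟩
    swap
    · exact hne (congrArg Subtype.val hbad)
    let Θ : SL(2, L) →* SL(2, K) := (signTwist (-1 : K) (by ring)).comp
      ((MulAut.conj (SL2Rel.weyl : SL(2, K))).toMonoidHom.comp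
        (Matrix.SpecialLinearGroup.map L.subtype))
    have hval : ∀ (g : SL(2, L)) (a b c d : L),
        (g : Matrix (Fin 2) (Fin 2) L) = !![a, b; c, d] →
        (Θ g : Matrix (Fin 2) (Fin 2) K) = !![(d : K), (c : K); (b : K), (a : K)] := by
      intro g a b c d hg
      ext i j
      fin_cases i <;> fin_cases j <;>
        simp [Θ, signTwist_val, Matrix.SpecialLinearGroup.coe_mul, SL2Rel.weyl_val, hg,
          Matrix.SpecialLinearGroup.map_apply_coe, RingHom.mapMatrix_apply, Matrix.mul_apply,
          Fin.sum_univ_two]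
    have hle : ∀ g : SL(2, L), Θ g ∈ S0 := by
      suffices (⊤ : Subgroup SL(2, L)) ≤ S0.comap Θ from fun g => this trivial
      rw [← htopL, Subgroup.closure_le]
      rintro g (hg | hg)
      · have : Θ g = transU (1 : K) := Subtype.ext (by rw [hval g _ _ _ _ hg]; simp [transU])
        show Θ g ∈ S0
        rw [this]
        exact hUp 1 (map_one σ)
      · have : Θ g = transL lam := Subtype.ext (by rw [hval g _ _ _ _ hg]; simp [transL, lamL])
        show Θ g ∈ S0
        rw [this]
        exact hLo f hf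
    have h := hle (transL lamL)
    rw [show Θ (transL lamL) = transU lam from
      Subtype.ext (by rw [hval _ _ _ _ _ (transL_val lamL)]; simp [transU, lamL])] at h
    exact hlamF (hUtop _ h)

end CfsgLib.ChevSubfield
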