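import Cfsg.Agent.ChevSubfield.Finish
import Cfsg.Agent.ChevSubfield.OddKey
import Cfsg.Agent.ChevSubfield.G2Two
import Cfsg.Agent.ChevSubfield.TwoB

/-!
Groups between the root elements over a finite subfield and the group: the type-by-type assembly.
-/

set_option autoImplicit false

namespace CfsgLib.ChevSubfield

open Cfsg.Lie CfsgLib.Chevalley CfsgLib.ChevField
open scoped Matrix

variable {D : ChevalleyDatum}

/-- Everything the argument needs from a type. -/
structure TypeData (S : Sys D) (K : Type*) [Field K] (p : ℕ) : Prop where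
  core : ∃ e ℓ, SubFacts S e ℓ ∧ chkCor D = true ∧ HasShort S K ∧
    (∀ (σ : K →+* K) (q : ℕ), FrobData σ p q → ∀ H : Subgroup (GL D.Idx K), RootsIn S σ H →
      Finite H → ∀ x y, S.xG K (topIdx D) x ∈ H → S.xG K (topIdx D) y ∈ H →
        S.xG K (topIdx D) (x * y) ∈ H) ∧
    (∀ (σ : K →+* K) (q : ℕ), FrobData σ p q → ∀ H : Subgroup (GL D.Idx K), Ctx S σ H →
      (Excep K ℓ → ∀ a b : K, S.xG K e a * S.xG K (topIdx D) b ∈ H → σ a = a ∧ σ b = b)) ∧
    ∀ (σ : K →+* K) (q : ℕ), FrobData σ p q → ∀ H : Subgroup (GL D.Idx K), Ctx S σ H → Finite H →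
      (∀ g ∈ H, g ∈ D.posUnipotent K → gmap D σ g = g) →
      ∀ g ∈ H, σ (crd D ((g : Matrix D.Idx D.Idx K) *ᵥ evec D K (topIdx D)) 0) =
        crd D ((g : Matrix D.Idx D.Idx K) *ᵥ evec D K (topIdx D)) 0

variable {K : Type*} [Field K] {σ : K →+* K} {p q r : ℕ}

/-- A finite group with no highest root element outside the subfield consists of fixed elements. -/
theorem gmap_fixed {S : Sys D} (Y : TypeData S K p) (P : FrobData σ p q)
    {H : Subgroup (GL D.Idx K)} [Finite H] (hC : Ctx S σ H) : ∀ g ∈ H, gmap D σ g = g := by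
  obtain ⟨e, ℓ, T, hcor, hsh, -, hexc, hkey⟩ := Y.core
  have hUni : ∀ g ∈ H, g ∈ D.posUnipotent K → gmap D σ g = g :=
    fun g hg hgU => T.uni_fixed hC (hexc σ q P H hC) hg hgU
  exact fixed_of_entry hC.roots hC.le_group T hcor hsh (hkey σ q P H hC inferInstance hUni)

/-- The dichotomy for an overgroup. -/
theorem overgroup {S : Sys D} (Y : TypeData S K p) (P : PowData σ p q r)
    {H : Subgroup (GL D.Idx K)} (hfix : ∀ g ∈ D.group K, gmap D σ g = g → g ∈ H)
    (hHG : H ≤ D.group K) : H = D.group K ∨ ∀ g ∈ H, gmap D σ g = g := by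
  classical
  have := P.finite
  have hroots : RootsIn S σ H := fun r hr t ht =>
    hfix _ (S.xG_mem K hr t) (by rw [gmap_xG S, ht])
  by_cases htop : ∀ t, S.xG K (topIdx D) t ∈ H → σ t = t
  · exact Or.inr (gmap_fixed Y P.frob ⟨hroots, hHG, htop⟩)
  · push Not at htop
    obtain ⟨t, ht, hne⟩ := htop
    obtain ⟨e, ℓ, T, -, -, hmul, -⟩ := Y.core
    refine Or.inl (le_antisymm hHG (group_le_of_top T hroots ?_))
    exact P.eq_univ (A := {t | S.xG K (topIdx D) t ∈ H})
      (fun x hx => hroots _ T.high.lt x hx)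
      (fun x hx y hy => by
        show S.xG K _ (x + y) ∈ H
        rw [← S.xG_add]; exact mul_mem hx hy)
      (fun x hx y hy => hmul σ q P.frob H hroots inferInstance x y hx hy) ht hne

/-- A finite group containing the root elements over the fixed field of `σ`: the parameters at
the highest root form a subfield, whose root elements lie in the group. -/
theorem param_subfield {S : Sys D} (Y : TypeData S K p) (P : FrobData σ p q)
    {H : Subgroup (GL D.Idx K)} [Finite H] (hroots : RootsIn S σ H) :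
    ∃ R : Subfield K, Finite R ∧ fixField σ ≤ R ∧
      (∀ t, S.xG K (topIdx D) t ∈ H ↔ t ∈ R) ∧ ∀ s < D.nroots, ∀ t ∈ R, S.xG K s t ∈ H := by
  obtain ⟨e, ℓ, T, -, -, hmul, -⟩ := Y.core
  obtain ⟨R, hR⟩ := exists_subfield_of_finite (A := {t | S.xG K (topIdx D) t ∈ H})
    (paramSet_finite T.high.lt) (hroots _ T.high.lt 0 (map_zero σ))
    (hroots _ T.high.lt 1 (map_one σ))
    (fun x hx y hy => by
      show S.xG K _ (x + y) ∈ H
      rw [← S.xG_add]; exact mul_mem hx hy)
    (fun x hx y hy => hmul σ q P H hroots inferInstance x y hx hy)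
  have hiff : ∀ t, S.xG K (topIdx D) t ∈ H ↔ t ∈ R := fun t => (Set.ext_iff.mp hR t).symm
  refine ⟨R, ?_, fun t ht => (hiff t).mp (hroots _ T.high.lt t ht), hiff,
    fun s hs t ht => roots_of_top T hroots R (fun t ht => (hiff t).mpr ht) hs ht⟩
  refine Set.Finite.to_subtype (s := (R : Set K)) ?_
  rw [hR]
  exact paramSet_finite T.high.lt

theorem excep_char (P : FrobData σ p q) {ℓ : ℕ} (hl : ℓ.Prime) (h : Excep K ℓ) : p = ℓ := by
  have := P.char
  exact (Nat.prime_dvd_prime_iff_eq P.prime hl).mp ((CharP.cast_eq_zero_iff K p ℓ).mp h.2)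

theorem chkCor_G2 : chkCor chevG2 = true := by decide +kernel
theorem chkCor_B2 : chkCor chevB2 = true := by decide +kernel
theorem chkCor_D4 : chkCor chevD4 = true := by decide +kernel
theorem chkCor_F4 : chkCor chevF4 = true := by decide +kernel
theorem chkCor_E6 : chkCor chevE6 = true := by decide +kernel
theorem chkCor_E7 : chkCor chevE7 = true := by decide +kernel
theorem chkCor_E8 : chkCor chevE8 = true := by decide +kernel
theorem chkTwo_G2 : chkTwo chevG2 1 = true := by decide +kernel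
theorem chkTwo_D4 : chkTwo chevD4 1 = true := by decide +kernel
theorem chkTwo_F4 : chkTwo chevF4 3 = true := by decide +kernel
theorem chkTwo_E6 : chkTwo chevE6 1 = true := by decide +kernel
theorem chkTwo_E7 : chkTwo chevE7 0 = true := by decide +kernel
theorem chkTwo_E8 : chkTwo chevE8 7 = true := by decide +kernel
theorem chkFour_D4 : chkFour chevD4 3 12 = true := by decide +kernel
theorem chkFour_F4 : chkFour chevF4 2 25 = true := by decide +kernel
theorem chkFour_E6 : chkFour chevE6 3 39 = true := by decide +kernel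
theorem chkFour_E7 : chkFour chevE7 2 73 = true := by decide +kernel
theorem chkFour_E8 : chkFour chevE8 6 121 = true := by decide +kernel

theorem pairing_B2 : chevB2.pairing (topIdx chevB2) (chevB2.simple 0) = 1 ∧ 0 < chevB2.rank := by
  constructor <;> decide +kernel

/-- The types other than `G₂` and `B₂`. -/
theorem typeData_four {S : Sys D} {e ℓ k j b : ℕ} (T : SubFacts S e ℓ) (A : AdjFacts S k)
    (hcor : chkCor D = true) (hsh : HasShort S K) (htwo : chkTwo D k = true)
    (hfour : chkFour D j b = true)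
    (hexc : ∀ (σ : K →+* K) (q : ℕ), FrobData σ p q → ∀ H : Subgroup (GL D.Idx K), Ctx S σ H →
      (Excep K ℓ → ∀ a b : K, S.xG K e a * S.xG K (topIdx D) b ∈ H → σ a = a ∧ σ b = b)) :
    TypeData S K p := by
  refine ⟨e, ℓ, T, hcor, hsh, fun σ q _ H hfix _ x y hx hy => top_mul_A2 T hfix A hx hy, hexc,
    fun σ q P H hC _ hUni g hg => ?_⟩
  have W := twoFacts_of_chk S htwo
  by_cases hp : p = 2
  · subst hp
    have := P.char
    exact ent_fixed_four hC.roots hUni T A W P hfour hg (hC.le_group hg)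
  · exact key_odd hC.roots hUni hC.top_fix T P hp A.k_lt W.pair hg (hC.le_group hg)

theorem typeData_G2 : TypeData sysG2 K p := by
  refine ⟨9, 3, subFacts_G2, chkCor_G2, hasShort_G2,
    fun σ q _ H hfix _ x y hx hy => top_mul_A2 subFacts_G2 hfix adjFacts_G2 hx hy,
    fun σ q P H hC hx a b h =>
      G2_exc hC.roots P (excep_char P Nat.prime_three hx) hC.top_fix h,
    fun σ q P H hC _ hUni g hg => ?_⟩
  have W := twoFacts_of_chk sysG2 chkTwo_G2
  by_cases hp : p = 2
  · subst hp
    have := P.char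
    exact G2_ent_fixed hC.roots hUni P W hg (hC.le_group hg)
  · exact key_odd hC.roots hUni hC.top_fix subFacts_G2 P hp adjFacts_G2.k_lt W.pair hg
      (hC.le_group hg)

theorem typeData_B2 : TypeData sysB2 K p := by
  refine ⟨6, 2, subFacts_B2, chkCor_B2, hasShort_B2,
    fun σ q P H hfix _ x y hx hy => B2_top_mul hfix P hx hy,
    fun σ q P H hC hx a b h => B2_exc hC.roots P (excep_char P Nat.prime_two hx) hC.top_fix h,
    fun σ q P H hC _ hUni g hg => ?_⟩
  by_cases hp : p = 2
  · subst hp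
    have := P.char
    exact B2_ent_fixed hC.roots hUni P hg (hC.le_group hg)
  · exact key_odd hC.roots hUni hC.top_fix subFacts_B2 P hp pairing_B2.2 pairing_B2.1 hg
      (hC.le_group hg)

theorem no_excep (h : Excep K 1) : False := h.1 rfl

/-- The data of the seven types. -/
theorem exists_typeData (hD : D ∈ [Cfsg.Lie.chevG2, Cfsg.Lie.chevB2, Cfsg.Lie.chevD4,
      Cfsg.Lie.chevF4, Cfsg.Lie.chevE6, Cfsg.Lie.chevE7, Cfsg.Lie.chevE8]) :
    ∃ S : Sys D, TypeData S K p := by
  simp only [List.mem_cons, List.not_mem_nil, or_false] at hD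
  rcases hD with rfl | rfl | rfl | rfl | rfl | rfl | rfl
  · exact ⟨_, typeData_G2⟩
  · exact ⟨_, typeData_B2⟩
  · exact ⟨sysD4, typeData_four
      (subFacts_of_chk _ (highFacts_of_chk checkedD4 chkHigh_D4) chkSub_D4)
      (adjFacts_of_chk sysD4 chkAdj_D4) chkCor_D4 (hasShort_of_none rfl) chkTwo_D4 chkFour_D4
      fun _ _ _ _ _ h => (no_excep h).elim⟩
  · exact ⟨sysF4, typeData_four subFacts_F4 adjFacts_F4 chkCor_F4 hasShort_F4 chkTwo_F4 chkFour_F4
      fun σ q P H hC hx a b h => F4_exc hC.roots P (excep_char P Nat.prime_two hx) hC.top_fix h⟩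
  · exact ⟨sysE6, typeData_four
      (subFacts_of_chk _ (highFacts_of_chk checkedE6 chkHigh_E6) chkSub_E6)
      (adjFacts_of_chk sysE6 chkAdj_E6) chkCor_E6 (hasShort_of_none rfl) chkTwo_E6 chkFour_E6
      fun _ _ _ _ _ h => (no_excep h).elim⟩
  · exact ⟨sysE7, typeData_four
      (subFacts_of_chk _ (highFacts_of_chk checkedE7 chkHigh_E7) chkSub_E7)
      (adjFacts_of_chk sysE7 chkAdj_E7) chkCor_E7 (hasShort_of_none rfl) chkTwo_E7 chkFour_E7
      fun _ _ _ _ _ h => (no_excep h).elim⟩
  · exact ⟨sysE8, typeData_four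
      (subFacts_of_chk _ (highFacts_of_chk checkedE8 chkHigh_E8) chkSub_E8)
      (adjFacts_of_chk sysE8 chkAdj_E8) chkCor_E8 (hasShort_of_none rfl) chkTwo_E8 chkFour_E8
      fun _ _ _ _ _ h => (no_excep h).elim⟩

end CfsgLib.ChevSubfield
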